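import Cfsg.Agent.Lib.Helper8.BalL.GraphOC
import Cfsg.Agent.Lib.Helper8.BalL.FieldB
import Cfsg.Agent.Lib.Helper8.GrInv.Skew
import Cfsg.Agent.Lib.Helper8.GrInv.OddDim
import Cfsg.Agent.Lib.Helper8.AutSp.BalD

/-!
# Graph involutions of symplectic type of `PSL_n`: the embedded symplectic group (helper5)

The standard skew-symmetric graph involution `β₀ = Dh (A1 r) * Γ` of `PSL_n(F)`, `n = 2m`, fixes
the image of `Sp_{2m}(F)` pointwise; its fixed points are the projective similitudes; and a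
semilinear automorphism fixing the image of `Sp_{2m}(F)` pointwise is trivial.
-/

set_option autoImplicit false

namespace Cfsg.Agent.Lib.Helper5.BalSp

open Matrix Cfsg Cfsg.Agent.AutPSLCount Cfsg.Agent.Lib.H7GraphInv
open Cfsg.Agent.Lib.Helper8.BalL Cfsg.Agent.Lib.Helper8.GrInv

universe u

variable {F : Type u} [Field F] {n m : ℕ} (r : Fin n ≃ Fin m ⊕ Fin m)

/-- `Sp_{2m}(F)` inside `SL_n(F)`, via the reindexing `r` -/
def subSp : ↥(Matrix.symplecticGroup (Fin m) F) →* SLn n F where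
  toFun s := ⟨s.val.submatrix r r, by
    rw [Matrix.det_submatrix_equiv_self]
    exact SymplecticGroup.det_eq_one s.2⟩
  map_one' := by
    apply Subtype.ext
    show (1 : Matrix (Fin m ⊕ Fin m) (Fin m ⊕ Fin m) F).submatrix r r = 1
    exact Matrix.submatrix_one_equiv r
  map_mul' s t := by
    apply Subtype.ext
    show (s.val * t.val).submatrix r r = s.val.submatrix r r * t.val.submatrix r r
    exact (Matrix.submatrix_mul_equiv _ _ _ _ _).symm

theorem subSp_val (s : ↥(Matrix.symplecticGroup (Fin m) F)) :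
    (subSp r s).val = s.val.submatrix r r := rfl

/-- the map from `Sp_{2m}(F)` to `PSL_n(F)` -/
def jSp : ↥(Matrix.symplecticGroup (Fin m) F) →* PSLn n F := pr.comp (subSp r)

theorem jSp_apply (s : ↥(Matrix.symplecticGroup (Fin m) F)) : jSp r s = pr (subSp r s) := rfl

/-- the standard skew-symmetric graph involution -/
noncomputable def β₀ : MulAut (PSLn n F) := Dh (A1 (F := F) r) * Γ

/-! ### the form matrix -/

theorem J'_mul_inv : (A1 (F := F) r).val * (A1 (F := F) r)⁻¹.val = 1 := by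
  rw [← Units.val_mul, mul_inv_cancel, Units.val_one]

theorem J'_inv_mul : (A1 (F := F) r)⁻¹.val * (A1 (F := F) r).val = 1 := by
  rw [← Units.val_mul, inv_mul_cancel, Units.val_one]

theorem inv_val_mul' (x : SLn n F) : (x⁻¹).val * x.val = 1 := by
  rw [← Matrix.SpecialLinearGroup.coe_mul, inv_mul_cancel, Matrix.SpecialLinearGroup.coe_one]

theorem val_mul_inv' (x : SLn n F) : x.val * (x⁻¹).val = 1 := by
  rw [← Matrix.SpecialLinearGroup.coe_mul, mul_inv_cancel, Matrix.SpecialLinearGroup.coe_one]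

theorem tr_mul_inv_tr (x : SLn n F) : x.valᵀ * (x⁻¹).valᵀ = 1 := by
  rw [← Matrix.transpose_mul, inv_val_mul', Matrix.transpose_one]

theorem inv_tr_mul_tr (x : SLn n F) : (x⁻¹).valᵀ * x.valᵀ = 1 := by
  rw [← Matrix.transpose_mul, val_mul_inv', Matrix.transpose_one]

/-- the image of a symplectic matrix preserves the form -/
theorem subSp_form (s : ↥(Matrix.symplecticGroup (Fin m) F)) :
    (subSp r s).val * (A1 (F := F) r).val * (subSp r s).valᵀ = (A1 (F := F) r).val := by
  rw [subSp_val, A1_val, Matrix.transpose_submatrix, Matrix.submatrix_mul_equiv,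
    Matrix.submatrix_mul_equiv]
  congr 1
  exact (SymplecticGroup.mem_iff).1 s.2

/-- a matrix of determinant one preserving the form comes from the symplectic group -/
theorem exists_subSp_eq (x : SLn n F)
    (hx : x.val * (A1 (F := F) r).val * x.valᵀ = (A1 (F := F) r).val) :
    ∃ s : ↥(Matrix.symplecticGroup (Fin m) F), subSp r s = x := by
  have hback : ∀ M : Matrix (Fin n) (Fin n) F,
      (M.submatrix r.symm r.symm).submatrix r r = M := by
    intro M
    ext i j
    simp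
  have hJ : (A1 (F := F) r).val.submatrix r.symm r.symm = Matrix.J (Fin m) F := by
    rw [A1_val]
    ext i j
    simp
  refine ⟨⟨x.val.submatrix r.symm r.symm, ?_⟩, ?_⟩
  · rw [SymplecticGroup.mem_iff, ← hJ, Matrix.transpose_submatrix,
      Matrix.submatrix_mul_equiv, Matrix.submatrix_mul_equiv, hx]
  · apply Subtype.ext
    rw [subSp_val]
    exact hback _

/-! ### fixed points of `β₀` -/

/-- the value of `β₀` on the class of `x` -/
theorem β₀_apply_val (x : SLn n F) :
    (conjSL (A1 (F := F) r) (itSL x)).val =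
      (A1 (F := F) r).val * (x⁻¹).valᵀ * (A1 (F := F) r)⁻¹.val := by
  rw [conjSL_apply, conjFun_val, itSL_apply]
  rfl

/-- a matrix of determinant one preserving the form gives a fixed point -/
theorem β₀_fix_of_form (x : SLn n F)
    (hx : x.val * (A1 (F := F) r).val * x.valᵀ = (A1 (F := F) r).val) :
    β₀ r (pr x) = pr x := by
  unfold β₀
  rw [graph_apply]
  congr 1
  apply Subtype.ext
  rw [β₀_apply_val]
  have h1 : x.val * (A1 (F := F) r).val = (A1 (F := F) r).val * (x⁻¹).valᵀ := by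
    calc x.val * (A1 (F := F) r).val
        = x.val * (A1 (F := F) r).val * (x.valᵀ * (x⁻¹).valᵀ) := by
          rw [tr_mul_inv_tr, Matrix.mul_one]
      _ = (x.val * (A1 (F := F) r).val * x.valᵀ) * (x⁻¹).valᵀ := by
          simp only [Matrix.mul_assoc]
      _ = (A1 (F := F) r).val * (x⁻¹).valᵀ := by rw [hx]
  rw [← h1, Matrix.mul_assoc, J'_mul_inv, Matrix.mul_one]

theorem β₀_jSp (s : ↥(Matrix.symplecticGroup (Fin m) F)) : β₀ r (jSp r s) = jSp r s :=
  β₀_fix_of_form r _ (subSp_form r s)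

/-- a fixed point is a similitude -/
theorem form_of_β₀_fix (hn : 1 ≤ n) (x : SLn n F) (hx : β₀ r (pr x) = pr x) :
    ∃ μ : F, μ ≠ 0 ∧ x.val * (A1 (F := F) r).val * x.valᵀ = μ • (A1 (F := F) r).val := by
  unfold β₀ at hx
  rw [graph_apply] at hx
  obtain ⟨ζ, hζ⟩ := pr_eq_smul _ _ hx
  rw [β₀_apply_val] at hζ
  have hζ0 : ζ ≠ 0 := by
    rintro rfl
    rw [zero_smul] at hζ
    have := x.2
    have hne : Nonempty (Fin n) := ⟨⟨0, by omega⟩⟩
    rw [hζ, Matrix.det_zero] at this
    exact zero_ne_one this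
  refine ⟨ζ, hζ0, ?_⟩
  have h1 : x.val * (A1 (F := F) r).val = ζ • ((A1 (F := F) r).val * (x⁻¹).valᵀ) := by
    rw [hζ, Matrix.smul_mul, Matrix.mul_assoc, J'_inv_mul, Matrix.mul_one]
  rw [h1, Matrix.smul_mul, Matrix.mul_assoc, inv_tr_mul_tr, Matrix.mul_one]

/-- a similitude conjugates isometries to isometries -/
theorem sim_conj_form (x : SLn n F) (μ : F) (hμ : μ ≠ 0)
    (hx : x.val * (A1 (F := F) r).val * x.valᵀ = μ • (A1 (F := F) r).val) (y : SLn n F)
    (hy : y.val * (A1 (F := F) r).val * y.valᵀ = (A1 (F := F) r).val) :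
    (x * y * x⁻¹).val * (A1 (F := F) r).val * (x * y * x⁻¹).valᵀ = (A1 (F := F) r).val := by
  -- `x⁻¹ J x⁻ᵀ = μ⁻¹ J`
  have h1 : (x⁻¹).val * (A1 (F := F) r).val * (x⁻¹).valᵀ = μ⁻¹ • (A1 (F := F) r).val := by
    have e : (x⁻¹).val * (x.val * (A1 (F := F) r).val * x.valᵀ) * (x⁻¹).valᵀ =
        (A1 (F := F) r).val := by
      calc (x⁻¹).val * (x.val * (A1 (F := F) r).val * x.valᵀ) * (x⁻¹).valᵀ
          = ((x⁻¹).val * x.val) * (A1 (F := F) r).val * (x.valᵀ * (x⁻¹).valᵀ) := by
            simp only [Matrix.mul_assoc]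
        _ = (A1 (F := F) r).val := by
            rw [inv_val_mul', tr_mul_inv_tr, Matrix.one_mul, Matrix.mul_one]
    rw [hx, Matrix.mul_smul, Matrix.smul_mul] at e
    calc (x⁻¹).val * (A1 (F := F) r).val * (x⁻¹).valᵀ
        = μ⁻¹ • (μ • ((x⁻¹).val * (A1 (F := F) r).val * (x⁻¹).valᵀ)) := by
          rw [smul_smul, inv_mul_cancel₀ hμ, one_smul]
      _ = μ⁻¹ • (A1 (F := F) r).val := by rw [e]
  rw [Matrix.SpecialLinearGroup.coe_mul, Matrix.SpecialLinearGroup.coe_mul,
    Matrix.transpose_mul, Matrix.transpose_mul]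
  calc x.val * y.val * (x⁻¹).val * (A1 (F := F) r).val * ((x⁻¹).valᵀ * (y.valᵀ * x.valᵀ))
      = x.val * (y.val * ((x⁻¹).val * (A1 (F := F) r).val * (x⁻¹).valᵀ) * y.valᵀ) * x.valᵀ := by
        simp only [Matrix.mul_assoc]
    _ = μ⁻¹ • (x.val * (y.val * (A1 (F := F) r).val * y.valᵀ) * x.valᵀ) := by
        rw [h1, Matrix.mul_smul, Matrix.smul_mul, Matrix.mul_smul, Matrix.smul_mul]
    _ = (A1 (F := F) r).val := by
        rw [hy, hx, smul_smul, inv_mul_cancel₀ hμ, one_smul]

/-- the image of `Sp_{2m}(F)` is normal in the fixed points of `β₀` -/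
theorem jSp_normal (hn : 1 ≤ n) (k : PSLn n F) (hk : β₀ r k = k)
    (s : ↥(Matrix.symplecticGroup (Fin m) F)) :
    ∃ s' : ↥(Matrix.symplecticGroup (Fin m) F), jSp r s' = k * jSp r s * k⁻¹ := by
  obtain ⟨x, rfl⟩ := pr_surjective k
  obtain ⟨μ, hμ, hx⟩ := form_of_β₀_fix r hn x hk
  obtain ⟨s', hs'⟩ := exists_subSp_eq r (x * subSp r s * x⁻¹)
    (sim_conj_form r x μ hμ hx _ (subSp_form r s))
  refine ⟨s', ?_⟩
  rw [jSp_apply, jSp_apply, hs', map_mul, map_mul, map_inv]

end Cfsg.Agent.Lib.Helper5.BalSp
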