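import Cfsg.Agent.Lib.Helper5.BalSp.Basic

/-!
# Graph involutions of symplectic type of `PSL_n`: the centraliser of `PSp_n` in `Aut(PSL_n)`
(helper5)
-/

set_option autoImplicit false

namespace Cfsg.Agent.Lib.Helper5.BalSp

open Matrix Cfsg Cfsg.Agent.AutPSLCount Cfsg.Agent.Lib.H7GraphInv
open Cfsg.Agent.Lib.Helper8.BalL Cfsg.Agent.Lib.Helper8.GrInv

universe u

variable {F : Type u} [Field F] {n m : ℕ} (r : Fin n ≃ Fin m ⊕ Fin m)

/-- the symplectic transvection with centre `w` (in the coordinates of `Fin n`) -/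
def sv (w : Fin n → F) : ↥(Matrix.symplecticGroup (Fin m) F) :=
  Cfsg.Agent.Lib.Helper5.Symp.sympT m (w ∘ r.symm) 1

/-- the image of a symplectic transvection is a rank-one perturbation of the identity -/
theorem subSp_sv (w : Fin n → F) :
    (subSp r (sv r w)).val = tv w ((A1 (F := F) r).val *ᵥ w) := by
  rw [subSp_val, A1_val, Matrix.submatrix_mulVec_equiv]
  ext i j
  rw [Matrix.submatrix_apply, tv_apply]
  show Cfsg.sympTransvection m (w ∘ r.symm) 1 (r i) (r j) = _
  unfold Cfsg.sympTransvection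
  rw [Matrix.add_apply, Matrix.one_apply, one_smul, Matrix.vecMulVec_apply, Function.comp_apply,
    Function.comp_apply, Equiv.symm_apply_apply]
  simp only [r.injective.eq_iff]

theorem J'_mulVec_ne_zero (w : Fin n → F) (hw : w ≠ 0) : (A1 (F := F) r).val *ᵥ w ≠ 0 := by
  have hinj := (Matrix.mulVec_injective_iff_isUnit).2 (⟨A1 (F := F) r, rfl⟩ :
    IsUnit (A1 (F := F) r).val)
  intro h0
  apply hw
  apply hinj
  rw [h0, Matrix.mulVec_zero]

theorem J'_dot_self (w : Fin n → F) : ((A1 (F := F) r).val *ᵥ w) ⬝ᵥ w = 0 := by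
  rw [dotProduct_comm, ← sympForm_eR]
  exact Cfsg.Agent.Lib.Helper5.Symp.sympForm_self m _

theorem single_add_ne_zero (i j : Fin n) (hij : i ≠ j) (t : F) :
    (Pi.single i 1 + t • Pi.single j 1 : Fin n → F) ≠ 0 := by
  intro h0
  have := congrFun h0 i
  rw [Pi.add_apply, Pi.smul_apply, Pi.single_eq_same, Pi.single_eq_of_ne hij, smul_eq_mul,
    mul_zero, add_zero, Pi.zero_apply] at this
  exact one_ne_zero this

/-- **a semilinear automorphism fixing `PSp_n` pointwise is trivial** -/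
theorem centSp_aut (hn : 3 ≤ n) (g : GL (Fin n) F) (τ : RingAut F)
    (hfix : ∀ s : ↥(Matrix.symplecticGroup (Fin m) F),
      (Dh g * Ph τ : MulAut (PSLn n F)) (jSp r s) = jSp r s) :
    (Dh g * Ph τ : MulAut (PSLn n F)) = 1 := by
  have hline : ∀ i j : Fin n, i ≠ j → ∀ t ∈ (Set.univ : Set F), ∃ c : F,
      g.val *ᵥ (Pi.single i 1 + (τ : F →+* F) t • Pi.single j 1) =
        c • (Pi.single i 1 + t • Pi.single j 1) := by
    intro i j hij t _
    obtain ⟨ζ, hζ⟩ := rel_of_fix g τ (subSp r (sv r (Pi.single i 1 + t • Pi.single j 1)))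
      (hfix _)
    rw [subSp_sv, tv_map] at hζ
    have hne : (fun k => (τ : F →+* F) (((A1 (F := F) r).val *ᵥ
        (Pi.single i 1 + t • Pi.single j 1 : Fin n → F)) k)) ≠ 0 := by
      intro h0
      apply J'_mulVec_ne_zero r _ (single_add_ne_zero i j hij t)
      funext k
      have := congrFun h0 k
      rw [Pi.zero_apply] at this ⊢
      exact (map_eq_zero (τ : F →+* F)).1 this
    obtain ⟨c, hc⟩ := tv_center hn g.val ⟨g, rfl⟩ _ _ _ _ hne ζ hζ
    rw [map_single_add] at hc
    exact ⟨c, hc⟩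
  obtain ⟨hτ, c, hc⟩ := scalar_of_lines (by omega) g.val ⟨g, rfl⟩ (τ : F →+* F) Set.univ
    (Set.mem_univ _) (Set.mem_univ _) hline
  have hτ1 : τ = 1 := by
    ext t
    exact hτ t (Set.mem_univ _)
  rw [hτ1, map_one, mul_one]
  exact Dh_eq_one_of_scalar (by omega) g c hc

end Cfsg.Agent.Lib.Helper5.BalSp
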