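import Cfsg.Agent.Lib.Helper5.BalSp.Cent

/-!
# Skew-symmetric graph involutions of `PSL_n`: trivial odd core (helper5)

The `Sp`-case of local balance for `PSL_n(F)`: a subgroup of odd order of `Aut(PSL_n(F))`
centralising a skew-symmetric graph involution `Dh A * Γ` and normalised by the inner automorphisms
from its fixed points is trivial.
-/

set_option autoImplicit false

namespace Cfsg.Agent.Lib.Helper5.BalSp

open Matrix Cfsg Cfsg.Agent.AutPSLCount Cfsg.Agent.Lib.H7GraphInv
open Cfsg.Agent.Lib.Helper8.BalL Cfsg.Agent.Lib.Helper8.GrInv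

universe u

variable {F : Type u} [Field F] {n m : ℕ} (r : Fin n ≃ Fin m ⊕ Fin m)

/-- `β₀` is an involution -/
theorem β₀_sq (hn : 2 ≤ n) : β₀ (F := F) r * β₀ r = 1 := by
  have := (graph_sq_eq_one_iff hn (A1 (F := F) r)).2 (Or.inr (A1_transpose r))
  rw [pow_two] at this
  exact this

/-- a scalar symplectic matrix has trivial image -/
theorem jSp_of_scalar (s : ↥(Matrix.symplecticGroup (Fin m) F)) (a : F)
    (ha : s.val = a • (1 : Matrix (Fin m ⊕ Fin m) (Fin m ⊕ Fin m) F)) : jSp r s = 1 := by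
  rw [jSp_apply]
  apply (QuotientGroup.eq_one_iff _).2
  rw [Matrix.SpecialLinearGroup.mem_center_iff]
  have hv : (subSp r s).val = Matrix.scalar (Fin n) a := by
    rw [subSp_val, ha]
    ext i j
    rw [Matrix.submatrix_apply, Matrix.smul_apply, Matrix.one_apply, Matrix.scalar_apply,
      Matrix.diagonal_apply]
    simp only [r.injective.eq_iff]
    split_ifs <;> simp
  refine ⟨a, ?_, hv.symm⟩
  have hdet := (subSp r s).2
  rw [hv, Matrix.scalar_apply, Matrix.det_diagonal, Finset.prod_const, Finset.card_univ] at hdet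
  exact hdet

theorem jSp_of_center (s : ↥(Matrix.symplecticGroup (Fin m) F))
    (hs : s ∈ Subgroup.center ↥(Matrix.symplecticGroup (Fin m) F)) : jSp r s = 1 := by
  obtain ⟨a, ha⟩ := Cfsg.Agent.Lib.H7AutPSp.center_scalar s hs
  exact jSp_of_scalar r s a ha

/-- the image of `J` is not trivial -/
theorem jSp_sJ_ne_one (hm : 1 ≤ m) :
    jSp r (Cfsg.Agent.Lib.Helper8.AutSp.sJ m F) ≠ 1 := by
  intro h
  rw [jSp_apply] at h
  have h4 := (QuotientGroup.eq_one_iff _).1 h
  obtain ⟨ζ, hζ⟩ := Cfsg.Agent.AutPSLCount.center_scalar _ h4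
  have e := congrFun (congrFun hζ (r.symm (Sum.inr ⟨0, hm⟩))) (r.symm (Sum.inl ⟨0, hm⟩))
  rw [subSp_val, Matrix.submatrix_apply, Equiv.apply_symm_apply, Equiv.apply_symm_apply,
    Matrix.scalar_apply, Matrix.diagonal_apply_ne _ (by
      intro h'
      have := r.symm.injective h'
      simp at this)] at e
  have e2 : (Cfsg.Agent.Lib.Helper8.AutSp.sJ m F).val (Sum.inr ⟨0, hm⟩) (Sum.inl ⟨0, hm⟩) = 1 :=
    Cfsg.Agent.Lib.H7AutPSp.J_entry hm
  rw [e2] at e
  exact one_ne_zero e

/-- **the standard skew-symmetric graph involution has trivial odd core** -/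
theorem core_trivial_β₀ [Fintype F] (h2 : (2 : F) ≠ 0) (hn : 3 ≤ n) (hfac : Fac n F)
    (hZ : Subgroup.center (PSLn n F) = ⊥)
    (W : Subgroup (MulAut (PSLn n F)))
    (hWcop : (Nat.card ↥W).Coprime 2)
    (hWcent : ∀ w ∈ W, w * β₀ r = β₀ r * w)
    (hWnorm : ∀ k : PSLn n F, β₀ r k = k → ∀ w ∈ W,
      MulAut.conj k * w * (MulAut.conj k)⁻¹ ∈ W) :
    W = ⊥ := by
  classical
  have : Fact (Nat.Prime 2) := ⟨Nat.prime_two⟩
  have hcinj := Cfsg.Agent.Lib.Helper8.AutSp.conj_injective_of_center hZ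
  have hm : 2 ≤ m := by
    have := Fintype.card_congr r
    rw [Fintype.card_fin, Fintype.card_sum, Fintype.card_fin] at this
    omega
  have hβ2 := β₀_sq (F := F) r (by omega)
  apply core_trivial_of_meet (p := 2) (β₀ r) (jSp r) (β₀_jSp r) (jSp_normal r (by omega)) ?_
    W hWcop hWcent hWnorm ?_ ?_
  · -- the centraliser of the image in `PSL_n`
    intro k hk
    obtain ⟨x, rfl⟩ := pr_surjective k
    apply hcinj
    rw [map_one, conj_pr]
    have := centSp_aut r hn (SpecialLinearGroup.toGL x) 1 (by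
      intro s
      rw [map_one, mul_one, ← conj_pr, MulAut.conj_apply]
      exact hk s)
    rwa [map_one, mul_one] at this
  · -- the core condition
    intro s hs
    let cj : ↥(Matrix.symplecticGroup (Fin m) F) →* MulAut (PSLn n F) :=
      (MulAut.conj).comp (jSp r)
    have hcj : ∀ s, cj s = MulAut.conj (jSp r s) := fun s => rfl
    have hnormal : (W.comap cj).Normal := by
      constructor
      intro s hs t
      rw [Subgroup.mem_comap] at hs ⊢
      rw [map_mul, map_mul, map_inv, hcj t]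
      exact hWnorm _ (β₀_jSp r t) _ hs
    rcases Cfsg.Agent.Lib.Helper8.AutSp.normal_dichotomy (by omega) (W.comap cj) with hcen | hcomm
    · exact jSp_of_center r s (hcen hs)
    · exfalso
      have hcard3 : 3 ≤ Fintype.card F := by
        have h3 : 2 < Fintype.card F := by
          rw [Fintype.two_lt_card_iff]
          refine ⟨0, 1, -1, zero_ne_one, ?_, ?_⟩
          · intro h
            have : (1 : F) = 0 := by rw [← neg_eq_zero]; exact h.symm
            exact one_ne_zero this
          · intro h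
            apply h2
            have : (1 : F) + 1 = 0 := by nth_rewrite 1 [h]; exact neg_add_cancel 1
            rw [← this]; norm_num
        omega
      have hperf : commutator ↥(Matrix.symplecticGroup (Fin m) F) = ⊤ := by
        apply Cfsg.Agent.S0269.result
        by_cases h3 : 3 ≤ m
        · exact Or.inl h3
        · exact Or.inr (Or.inl ⟨by omega, hcard3⟩)
      have hJW : MulAut.conj (jSp r (Cfsg.Agent.Lib.Helper8.AutSp.sJ m F)) ∈ W := by
        have : Cfsg.Agent.Lib.Helper8.AutSp.sJ m F ∈ W.comap cj :=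
          hcomm (by rw [hperf]; trivial)
        exact this
      have hJ1 := jSp_sJ_ne_one (F := F) r (by omega : 1 ≤ m)
      have hJ2 : (jSp r (Cfsg.Agent.Lib.Helper8.AutSp.sJ m F)) ^ 2 = 1 := by
        rw [pow_two, ← map_mul]
        exact jSp_of_center r _ (Cfsg.Agent.Lib.Helper8.AutSp.sJ_sq_center m F)
      have hord : orderOf (MulAut.conj (jSp r (Cfsg.Agent.Lib.Helper8.AutSp.sJ m F))) = 2 := by
        rw [orderOf_injective _ hcinj]
        exact orderOf_eq_prime hJ2 hJ1
      have h1 : orderOf (⟨_, hJW⟩ : ↥W) = 2 := by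
        rw [← hord]
        exact Subgroup.orderOf_mk _ hJW
      have h2' : 2 ∣ Nat.card ↥W := by
        rw [← h1]
        exact orderOf_dvd_natCard _
      have := Nat.eq_one_of_dvd_coprimes hWcop h2' dvd_rfl
      norm_num at this
  · -- automorphisms in `W` fixing the image pointwise
    intro w hw hfix
    obtain ⟨g, τ, c, hc, rfl⟩ := hfac w
    rcases hc with rfl | rfl
    · rw [mul_one] at hfix ⊢
      rw [centSp_aut r hn g τ hfix, one_pow]
    · have hβinv : (β₀ (F := F) r)⁻¹ = β₀ r := inv_eq_of_mul_eq_one_right hβ2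
      have e : Dh g * Ph τ * Γ * (β₀ (F := F) r)⁻¹ =
          (Dh (g * Matrix.GeneralLinearGroup.map (τ : F →+* F) (A1 (F := F) r)⁻¹) * Ph τ :
            MulAut (PSLn n F)) := by
        unfold β₀
        rw [_root_.mul_inv_rev, ← map_inv]
        calc Dh g * Ph τ * Γ * (Γ⁻¹ * Dh (A1 (F := F) r)⁻¹)
            = Dh g * (Ph τ * Dh (A1 (F := F) r)⁻¹) := by group
          _ = Dh g * (Dh (Matrix.GeneralLinearGroup.map (τ : F →+* F) (A1 (F := F) r)⁻¹) *
                Ph τ) := by rw [Ph_Dh]
          _ = _ := by rw [← mul_assoc, ← map_mul]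
      have h1 := centSp_aut r hn
        (g * Matrix.GeneralLinearGroup.map (τ : F →+* F) (A1 (F := F) r)⁻¹) τ (by
          intro s
          rw [← e, MulAut.mul_apply, hβinv, β₀_jSp r s]
          exact hfix s)
      rw [← e, mul_inv_eq_one] at h1
      rw [h1, pow_two, hβ2]

/-- **skew-symmetric graph involutions of `PSL_n(F)` (`n ≥ 3`, `F` finite of odd characteristic)
have trivial odd core** -/
theorem core_trivial_graph_skew {F : Type*} [Field F] [Fintype F] {n : ℕ} (h2 : (2 : F) ≠ 0)
    (hn : 3 ≤ n) (hfac : Fac n F) (hZ : Subgroup.center (PSLn n F) = ⊥) (A : GL (Fin n) F)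
    (hA : A.valᵀ = -A.val)
    (W : Subgroup (MulAut (PSLn n F))) (hWcop : (Nat.card ↥W).Coprime 2)
    (hWcent : ∀ w ∈ W, w * (Dh A * Γ) = (Dh A * Γ) * w)
    (hWnorm : ∀ k : PSLn n F, (Dh A * Γ : MulAut (PSLn n F)) k = k → ∀ w ∈ W,
      MulAut.conj k * w * (MulAut.conj k)⁻¹ ∈ W) :
    W = ⊥ := by
  rcases Nat.even_or_odd n with he | ho
  · obtain ⟨m, hm⟩ := he
    obtain ⟨r⟩ : Nonempty (Fin n ≃ Fin m ⊕ Fin m) :=
      ⟨(finCongr hm).trans finSumFinEquiv.symm⟩
    obtain ⟨h, -, hconj⟩ := conj_skew r (by omega) h2 A hA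
    exact Cfsg.Agent.Lib.Helper8.Bal.core_trivial_transport (Dh A * Γ) (β₀ r) h hconj.symm
      (fun W' h1 h2' h3 => core_trivial_β₀ r h2 hn hfac hZ W' h1 h2' h3)
      W hWcop hWcent hWnorm
  · exact (not_skew_of_odd h2 ho A hA).elim

end Cfsg.Agent.Lib.Helper5.BalSp
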